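import Cfsg.Agent.Lib.BlockArith.FullDefect
import Cfsg.Agent.Lib.Blocks.Heights
import Cfsg.Agent.Lib.Blocks.PrincipalSection
import Cfsg.Agent.Lib.CharBlocks.Degree

/-!
# The principal block and the congruence `χ x ≡ χ 1`

For a character of degree prime to `p`, membership in the principal block is the congruence
`χ x ≡ χ 1` at the `p`-regular elements whose class has size prime to `p`.
-/

set_option autoImplicit false

noncomputable section

namespace CfsgLib.CharBlocks.PRatExtension

open Cfsg CfsgLib.Char CfsgLib.Blocks CfsgLib.BlockArith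

variable {H : Type*} [Group H] [Fintype H] {p : ℕ} {M : Ideal AlgInt}

/-- In a member of the principal block, such an element takes the value of the degree. -/
theorem cong_of_mem (hM : IsPModular p M) {χ : IrrCharacter H} (h : χ ∈ principalBlock M H)
    {x : H} (hK : ¬ p ∣ (Subgroup.centralizer ({x} : Set H)).index) :
    MemLocalIdeal M ((χ : H → ℂ) x - (χ : H → ℂ) 1) := by
  have := hM.2.1
  have hs := (sameBlock_iff _ _).mpr
    (((mem_blockOf_iff (CfsgLib.Char.irrOne : IrrCharacter H) χ).mp h).symm) x
  obtain ⟨d, hd⟩ := exists_degree (isCharacter_of_isIrr χ.2)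
  set m := (Subgroup.centralizer ({x} : Set H)).index
  let c : locRing M := ofInt M ⟨(χ : H → ℂ) x, char_isIntegral (isCharacter_of_isIrr χ.2) x⟩
  have hdne : (χ : H → ℂ) 1 ≠ 0 := irr_one_ne_zero χ.2
  let w : locRing M := zomega χ (zclass M x) - zomega (CfsgLib.Char.irrOne : IrrCharacter H) (zclass M x)
  have hw : res M w = 0 := by
    rw [res_eq_zero_iff]
    push_cast [w, coe_zomega_zclass]
    exact hs
  rw [show (χ : H → ℂ) x - (χ : H → ℂ) 1 = ((c - (d : locRing M) : locRing M) : ℂ) by
    push_cast [c, coe_ofInt]; rw [hd], ← res_eq_zero_iff]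
  have he : ((m : locRing M)) * (c - (d : locRing M)) = (d : locRing M) * w := by
    apply Subtype.ext
    push_cast [w, c, coe_ofInt, coe_zomega_zclass, centralChar, irrOne_apply]
    rw [hd] at hdne ⊢
    field_simp
    ring
  have := congrArg (res M) he
  rw [map_mul, map_mul, hw, mul_zero, mul_eq_zero] at this
  exact this.resolve_left fun h0 => hK ((res_natCast_eq_zero_iff M hM m).mp h0)

/-- The congruence characterises the principal block among characters of degree prime to `p`. -/
theorem mem_of_cong (hM : IsPModular p M) {χ : IrrCharacter H}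
    (hd : ¬ p ∣ charDegree (χ : H → ℂ))
    (hc : ∀ x : H, ¬ p ∣ orderOf x → ¬ p ∣ (Subgroup.centralizer ({x} : Set H)).index →
      MemLocalIdeal M ((χ : H → ℂ) x - (χ : H → ℂ) 1)) : χ ∈ principalBlock M H := by
  classical
  have := hM.2.1
  by_contra hmem
  have hB : IsPBlock M (principalBlock M H) := isPBlock_principalBlock
  set d := charDegree (χ : H → ℂ)
  have hd1 : (χ : H → ℂ) 1 = d := (coe_charDegree_irr χ).symm
  let v : H → locRing M := fun x => ofInt M ⟨(χ : H → ℂ) x, char_isIntegral (isCharacter_of_isIrr χ.2) x⟩
  let c : H → locRing M := coeffL hB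
  have hone : ∑ x : H, c x = 1 := by
    apply Subtype.ext
    push_cast [c, coeffL]
    have := omega_blockElt (principalBlock M H) (CfsgLib.Char.irrOne : IrrCharacter H)
    rw [if_pos (by rw [principalBlock_eq, mem_blockOf_iff]), omega, charLin_apply] at this
    simpa [blockElt, coeff_ofFun, irrOne_apply] using this
  have hzero : ∑ x : H, c x * v x = 0 := by
    apply Subtype.ext
    push_cast [c, v, coeffL, coe_ofInt]
    have := omega_blockElt (principalBlock M H) χ
    rw [if_neg hmem, omega, charLin_apply, div_eq_zero_iff] at this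
    simpa [blockElt, coeff_ofFun] using this.resolve_right (irr_one_ne_zero χ.2)
  let f : H → Res M := fun x => res M (c x * (v x - (d : locRing M)))
  have hf : ∑ x : H, f x = 0 := by
    have hpres := res_charP M hM
    have := Fintype.ofFinite (ConjClasses H)
    rw [← Finset.sum_fiberwise Finset.univ ConjClasses.mk f]
    refine Finset.sum_eq_zero fun C _ => ?_
    obtain ⟨g, rfl⟩ := ConjClasses.mk_surjective C
    have hconst : ∀ x ∈ Finset.univ.filter (fun x : H => ConjClasses.mk x = ConjClasses.mk g), f x = f g := by
      intro x hx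
      obtain ⟨h, hh⟩ := isConj_iff.1 (ConjClasses.mk_eq_mk_iff_isConj.1 (Finset.mem_filter.1 hx).2.symm)
      subst hh
      refine congrArg (res M) (Subtype.ext ?_)
      push_cast [c, v, coeffL, coe_ofInt]
      rw [blockCoeff_conj, isClassFunction_of_isIrr χ.2 g h]
    rw [Finset.sum_congr rfl hconst, Finset.sum_const, nsmul_eq_mul]
    by_cases hreg : p ∣ orderOf g
    · have : f g = 0 := by
        simp only [f]
        rw [show c g = 0 from Subtype.ext (blockCoeff_eq_zero hM hB hreg), zero_mul, map_zero]
      rw [this, mul_zero]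
    by_cases hK : p ∣ (Subgroup.centralizer ({g} : Set H)).index
    · rw [show (Finset.univ.filter fun x : H => ConjClasses.mk x = ConjClasses.mk g).card =
          (Subgroup.centralizer ({g} : Set H)).index by
        rw [show (Subgroup.centralizer ({g} : Set H)).index =
            (MulAction.orbit (ConjAct H) g).ncard by
          rw [← MulAction.index_stabilizer, ConjAct.stabilizer_eq_centralizer]; rfl,
          ← Set.ncard_coe_finset]
        congr 1
        ext x
        rw [ConjAct.mem_orbit_conjAct, Finset.mem_coe, Finset.mem_filter]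
        simp [ConjClasses.mk_eq_mk_iff_isConj]]
      rw [(CharP.cast_eq_zero_iff (Res M) p _).2 hK, zero_mul]
    · have : f g = 0 := by
        simp only [f]
        rw [map_mul, (res_eq_zero_iff M (v g - (d : locRing M))).mpr (by
          push_cast [v, coe_ofInt]; rw [← hd1]; exact hc g hreg hK), mul_zero]
      rw [this, mul_zero]
  simp only [f, mul_sub, ← map_sum, Finset.sum_sub_distrib, ← Finset.sum_mul, hone, hzero, one_mul,
    zero_sub, map_neg, neg_eq_zero, res_natCast_eq_zero_iff M hM] at hf
  exact hd hf

end CfsgLib.CharBlocks.PRatExtension
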