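import Cfsg.Agent.Lib.CharNormal.GlaubermanCyclic
import Cfsg.Agent.Lib.Char.PResidualSum
import Mathlib.FieldTheory.Galois.Basic

/-!
# Characters fixed by the automorphisms fixing the roots of unity of order prime to `p`

`Fixing n σ`: the automorphism `σ` of `ℂ` fixes the `n`-th roots of unity.
`PRat n χ`: `χ` is fixed by all these.
-/

set_option autoImplicit false

noncomputable section

namespace CfsgLib.CharBlocks.PRatExtension

open Cfsg CfsgLib.Char CfsgLib.CharNormal

/-- The automorphism fixes the `n`-th roots of unity. -/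
def Fixing (n : ℕ) (σ : ℂ ≃+* ℂ) : Prop := ∀ z : ℂ, z ^ n = 1 → σ z = z

/-- The function is fixed by all automorphisms fixing the `n`-th roots of unity. -/
def PRat (n : ℕ) {H : Type*} (χ : H → ℂ) : Prop := ∀ σ : ℂ ≃+* ℂ, Fixing n σ → σ ∘ χ = χ

variable {H : Type*} [Group H] [Finite H] {p : ℕ} [hp : Fact p.Prime] {n : ℕ}

omit hp in
/-- Values at elements of order dividing `n` are fixed. -/
theorem fixing_apply {σ : ℂ ≃+* ℂ} (hσ : Fixing n σ) {χ : H → ℂ} (hχ : IsCharacter H χ) {x : H}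
    (hx : orderOf x ∣ n) : σ (χ x) = χ x := by
  have h := ringEquiv_char_apply (σ := σ) (n := n) (k := 1) (fun z hz => by rw [pow_one]; exact hσ z hz) hχ hx
  rwa [pow_one] at h

/-- The determinant of the conjugate character is the conjugate of the determinant. -/
theorem detChar_ringEquiv (σ : ℂ ≃+* ℂ) {χ : H → ℂ} (hχ : IsCharacter H χ) :
    detChar (σ ∘ χ) = σ ∘ detChar χ := by
  obtain ⟨d, ρ, rfl⟩ := hχ
  let ρ' : Representation ℂ H (Fin d → ℂ) :=
    (Matrix.toLinAlgEquiv' : Matrix (Fin d) (Fin d) ℂ ≃ₐ[ℂ] _).toRingEquiv.toMonoidHom.comp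
      ((σ : ℂ →+* ℂ).mapMatrix.toMonoidHom.comp
        ((LinearMap.toMatrixAlgEquiv' : _ ≃ₐ[ℂ] Matrix (Fin d) (Fin d) ℂ).toRingEquiv.toMonoidHom.comp ρ))
  have hchar : ρ'.character = σ ∘ ρ.character := funext fun g => by
    symm
    show σ (LinearMap.trace ℂ _ (ρ g)) = LinearMap.trace ℂ _ (ρ' g)
    rw [LinearMap.trace_eq_matrix_trace ℂ (Pi.basisFun ℂ (Fin d)) (ρ g),
      LinearMap.trace_eq_matrix_trace ℂ (Pi.basisFun ℂ (Fin d)) (ρ' g), LinearMap.toMatrix_eq_toMatrix']
    show σ (Matrix.trace (LinearMap.toMatrix' (ρ g))) =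
      Matrix.trace (LinearMap.toMatrix' (Matrix.toLin' ((LinearMap.toMatrix' (ρ g)).map σ)))
    rw [LinearMap.toMatrix'_toLin', Matrix.trace, Matrix.trace, map_sum]
    rfl
  funext g
  rw [← hchar, Function.comp_apply, detChar_eq, detChar_eq, ← LinearMap.det_toMatrix' (f := ρ' g),
    ← LinearMap.det_toMatrix' (f := ρ g)]
  show (LinearMap.toMatrix' (Matrix.toLin' ((LinearMap.toMatrix' (ρ g)).map σ))).det = _
  rw [LinearMap.toMatrix'_toLin']
  exact ((σ : ℂ →+* ℂ).map_det _).symm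

/-- For odd `p`, a character fixed by these automorphisms has determinantal order prime to `p`. -/
theorem not_dvd_detOrder (hp2 : p ≠ 2) (hn0 : n ≠ 0) (hn : ¬ p ∣ n) {χ : H → ℂ} (hχ : IsCharacter H χ)
    (hr : PRat n χ) : ¬ p ∣ detOrder χ := by
  obtain ⟨f, hf⟩ := exists_detHom hχ
  rw [detOrder, ← hf, orderOf_linFun]
  set c := ordCompl[p] (Nat.card H) with hc
  set e := (Nat.card H).factorization p with he
  have hce : p ^ e * c = Nat.card H := Nat.ordProj_mul_ordCompl_eq_self _ _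
  have hcp : ¬ p ∣ c := Nat.not_dvd_ordCompl hp.out Nat.card_pos.ne'
  have hco : n.Coprime (p ^ e) := ((hp.out.coprime_iff_not_dvd.mpr hn).symm).pow_right e
  obtain ⟨k, hk1, hk2⟩ := Nat.chineseRemainder hco 1 (p ^ e - 1)
  have hpe : 1 ≤ p ^ e := Nat.one_le_pow _ _ hp.out.pos
  have hkc : k.Coprime (n * p ^ e) := Nat.Coprime.mul_right
    (by rw [Nat.Coprime, hk1.gcd_eq, Nat.gcd_one_left])
    (by rw [Nat.Coprime, hk2.gcd_eq]
        exact (Nat.coprime_self_sub_left hpe).mpr (Nat.coprime_one_left _))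
  obtain ⟨σ, hσ⟩ := exists_ringEquiv_root_pow (n := n * p ^ e)
    (Nat.mul_ne_zero hn0 (pow_ne_zero _ hp.out.ne_zero)) hkc
  have hfix : Fixing n σ := fun z hz => by
    rw [hσ z (by rw [pow_mul, hz, one_pow])]
    conv_rhs => rw [← pow_one z]
    rw [← Nat.mod_add_div k n, ← Nat.mod_add_div 1 n, show k % n = 1 % n from hk1, pow_add, pow_add,
      pow_mul, pow_mul, hz, one_pow, one_pow]
  have hdet : ∀ x, σ (linFun f x) = linFun f x := fun x => by
    have := congrFun (detChar_ringEquiv σ hχ) x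
    rw [hr σ hfix, ← hf, Function.comp_apply] at this
    exact this.symm
  intro hd
  refine hcp (hd.trans (orderOf_dvd_of_pow_eq_one (MonoidHom.ext fun x => ?_)))
  rw [MonoidHom.pow_apply, MonoidHom.one_apply]
  set u := f x ^ c with hu
  have hu1 : u ^ p ^ e = 1 := by
    rw [hu, ← pow_mul, mul_comm, hce, ← map_pow, pow_card_eq_one', map_one]
  have hu2 : (u : ℂ) ^ k = u := by
    rw [← hσ (u : ℂ) (by rw [mul_comm, pow_mul, ← Units.val_pow_eq_pow_val, hu1, Units.val_one, one_pow]),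
      hu, Units.val_pow_eq_pow_val, map_pow]
    exact congrArg (· ^ c) (hdet x)
  have hu3 : u ^ (p ^ e - 1) = u := by
    rw [← pow_eq_pow_iff_modEq.2 (hk2.of_dvd (orderOf_dvd_of_pow_eq_one hu1))]
    exact Units.ext (by rw [Units.val_pow_eq_pow_val]; exact hu2)
  have hu4 : u ^ 2 = 1 := by
    rw [sq]
    nth_rw 1 [← hu3]
    rw [← pow_succ, Nat.sub_add_cancel hpe, hu1]
  have hcop : Nat.Coprime (p ^ e) 2 := ((Nat.coprime_primes hp.out Nat.prime_two).mpr hp2).pow_left e
  have := Nat.dvd_gcd (orderOf_dvd_of_pow_eq_one hu1) (orderOf_dvd_of_pow_eq_one hu4)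
  rw [hcop.gcd_eq_one, Nat.dvd_one] at this
  exact orderOf_eq_one_iff.1 this

omit hp in
/-- Members of the cyclotomic field are fixed. -/
theorem fixing_adjoin {σ : ℂ ≃+* ℂ} (hσ : Fixing n σ) (hn : n ≠ 0) {x : ℂ}
    (hx : x ∈ IntermediateField.adjoin ℚ ({Complex.exp (2 * Real.pi * Complex.I / n)} : Set ℂ)) :
    σ x = x := by
  let L : IntermediateField ℚ ℂ :=
    { carrier := {y | σ y = y}
      mul_mem' := fun {a b} ha hb => by simp only [Set.mem_ofPred_eq] at *; rw [map_mul, ha, hb]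
      one_mem' := map_one σ
      add_mem' := fun {a b} ha hb => by simp only [Set.mem_ofPred_eq] at *; rw [map_add, ha, hb]
      zero_mem' := map_zero σ
      algebraMap_mem' := fun q => map_ratCast σ q
      inv_mem' := fun a ha => by simp only [Set.mem_ofPred_eq] at *; rw [map_inv₀, ha] }
  refine (IntermediateField.adjoin_le_iff (T := L)).mpr ?_ hx
  rw [Set.singleton_subset_iff]
  exact hσ _ (Complex.isPrimitiveRoot_exp n hn).pow_eq_one

omit hp in
/-- An element outside a subfield is moved by an automorphism fixing the subfield. -/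
theorem exists_fixing_ne (K : IntermediateField ℚ ℂ) {x : ℂ} (hZ : IsIntegral ℤ x) (hx : x ∉ K) :
    ∃ σ : ℂ ≃+* ℂ, (∀ z ∈ K, σ z = z) ∧ σ x ≠ x := by
  have hint : IsIntegral K x := (hZ.tower_top (A := ℚ)).tower_top
  obtain ⟨y, hy, hne⟩ : ∃ y : ℂ, IsConjRoot K (x) y ∧ x ≠ y := by
    have h2 : 2 ≤ (minpoly K (x)).natDegree := by
      rcases Nat.lt_or_ge (minpoly K (x)).natDegree 2 with h | h
      · exfalso
        obtain ⟨a, ha⟩ := minpoly.natDegree_eq_one_iff.mp (le_antisymm (by omega) (minpoly.natDegree_pos hint))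
        exact hx (ha ▸ a.2)
      · exact h
    by_contra hno
    push Not at hno
    have hroots : (minpoly K (x)).rootSet ℂ ⊆ {x} := fun y hy => by
      rw [← isConjRoot_iff_mem_minpoly_rootSet hint] at hy
      exact (hno y hy).symm
    have hcard := Polynomial.card_rootSet_eq_natDegree (K := ℂ)
      (minpoly.irreducible hint).separable (IsAlgClosed.splits _)
    rw [← Nat.card_eq_fintype_card, Nat.card_coe_set_eq] at hcard
    have := Set.ncard_le_ncard hroots
    rw [Set.ncard_singleton, hcard] at this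
    omega
  let A : IntermediateField K ℂ := algebraicClosure K ℂ
  have : IsAlgClosure K A := algebraicClosure.isAlgClosure K ℂ
  have : Normal K A := IsAlgClosure.normal K A
  have hyint : IsIntegral K y := by
    refine ⟨minpoly K (x), minpoly.monic hint, ?_⟩
    rw [← Polynomial.aeval_def, hy]
    exact minpoly.aeval K y
  have hxA : x ∈ A := (mem_algebraicClosure_iff' ..).mpr hint
  have hyA : y ∈ A := (mem_algebraicClosure_iff' ..).mpr hyint
  have hconj : IsConjRoot K (⟨y, hyA⟩ : A) ⟨x, hxA⟩ := by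
    rw [isConjRoot_def, ← minpoly.algebraMap_eq (algebraMap A ℂ).injective,
      ← minpoly.algebraMap_eq (algebraMap A ℂ).injective]
    exact hy.symm
  obtain ⟨τ, hτ⟩ := hconj.exists_algEquiv
  obtain ⟨σ, hσ⟩ := exists_ringEquiv_extend τ.toRingEquiv
  have hσx : σ (x) = y := (hσ ⟨x, hxA⟩).trans (congrArg (fun z : A => (z : ℂ)) hτ)
  refine ⟨σ, fun z hz => ?_, fun h => hne (h.symm.trans hσx)⟩
  have h1 := hσ (algebraMap K A ⟨z, hz⟩)
  rw [show τ.toRingEquiv (algebraMap K A ⟨z, hz⟩) = algebraMap K A ⟨z, hz⟩ from τ.commutes _] at h1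
  exact h1

omit hp in
/-- Conversely, a fixed character takes its values in the cyclotomic field. -/
theorem mem_adjoin_of_PRat (hn : n ≠ 0) {χ : H → ℂ} (hχ : IsCharacter H χ) (hr : PRat n χ) (x : H) :
    χ x ∈ IntermediateField.adjoin ℚ ({Complex.exp (2 * Real.pi * Complex.I / n)} : Set ℂ) := by
  set K := IntermediateField.adjoin ℚ ({Complex.exp (2 * Real.pi * Complex.I / n)} : Set ℂ) with hK
  have hz0 : Complex.exp (2 * Real.pi * Complex.I / n) ∈ K := IntermediateField.subset_adjoin ℚ _ rfl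
  clear_value K
  by_contra hmem
  obtain ⟨σ, hσ, hne⟩ := exists_fixing_ne K (char_isIntegral hχ x) hmem
  refine hne (congrFun (hr σ fun z hz => hσ z ?_) x)
  have : NeZero n := ⟨hn⟩
  obtain ⟨i, -, rfl⟩ := (Complex.isPrimitiveRoot_exp n hn).eq_pow_of_pow_eq_one hz
  exact pow_mem hz0 i

end CfsgLib.CharBlocks.PRatExtension
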