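import Cfsg.Agent.Lib.CharBlocks.PRatExtension.Criterion
import Cfsg.Agent.Lib.CharBlocks.PRatExtension.Rational
import Cfsg.Agent.Lib.Blocks.AlperinDade
import Cfsg.Agent.S0867

/-!
# Good extensions of a `p`-rational principal character

A good extension to `U ≥ N` is an irreducible extension that is `p`-rational and congruent to its
degree at the `p`-regular elements centralising a Sylow subgroup of `N`. When `U / N` has a normal
`p`-complement there is exactly one.
-/

set_option autoImplicit false

noncomputable section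

namespace CfsgLib.CharBlocks.PRatExtension

open Cfsg CfsgLib.Char CfsgLib.CharNormal CfsgLib.Blocks
open scoped ComplexConjugate

universe u

section Norm

variable {H : Type u} [Group H] [Fintype H]

/-- A function of norm `|L|` on every left coset of `L` has norm one. -/
theorem norm_one_of_coset {L : Subgroup H} [Fintype L] {f : H → ℂ}
    (hf : ∀ g : H, ∑ l : L, f (g * l) * conj (f (g * l)) = (Nat.card L : ℂ)) : classInner f f = 1 := by
  have h1 : ∑ g : H, ∑ l : L, f (g * l) * conj (f (g * l)) =
      (Nat.card L : ℂ) * ∑ g : H, f g * conj (f g) := by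
    rw [Finset.sum_comm, Nat.card_eq_fintype_card]
    have hl : ∀ l : L, ∑ g : H, f (g * l) * conj (f (g * l)) = ∑ g : H, f g * conj (f g) := fun l =>
      Equiv.sum_comp (Equiv.mulRight (l : H)) fun g => f g * conj (f g)
    rw [Finset.sum_congr rfl fun (l : L) _ => hl l, Finset.sum_const, Finset.card_univ, nsmul_eq_mul]
  rw [Finset.sum_congr rfl fun g _ => hf g, Finset.sum_const, Finset.card_univ, nsmul_eq_mul,
    mul_comm, ← Nat.card_eq_fintype_card] at h1
  rw [classInner_def, ← mul_left_cancel₀ (Nat.cast_ne_zero.mpr Nat.card_pos.ne') h1]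
  exact inv_mul_cancel₀ card_ne_zero'

/-- A character with irreducible restriction to a subgroup is irreducible. -/
theorem irr_of_res {L : Subgroup H} {f : H → ℂ} (hf : IsCharacter H f)
    (hL : IsIrrCharacter L fun l : L => f l) : IsIrrCharacter H f := by
  have := Fintype.ofFinite L
  exact irr_of_norm_one hf (norm_one_of_coset (sum_normSq_coset L hf hL))

end Norm

variable {G : Type u} [Group G] [Fintype G] (p : ℕ) (M : Ideal AlgInt) (N : Subgroup G)

/-- The element centralises some Sylow subgroup of `N`. -/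
def Cong0 (x : G) : Prop := ∃ Q : Sylow p N, ∀ q ∈ (Q : Subgroup N), (q : G) * x = x * (q : G)

/-- A good extension of `θ` to `U`. -/
structure Good (n : ℕ) (θ : N → ℂ) (U : Subgroup G) (χ : U → ℂ) : Prop where
  irr : IsIrrCharacter U χ
  res : ∀ (x : N) (h : (x : G) ∈ U), χ ⟨x, h⟩ = θ x
  prat : PRat n χ
  cong : ∀ x : U, ¬ p ∣ orderOf x → Cong0 p N (x : G) → MemLocalIdeal M (χ x - θ 1)

variable {p M N}

/-- The standing hypotheses. -/
structure Setup (p : ℕ) (M : Ideal AlgInt) (N : Subgroup G) (n : ℕ) (θ : N → ℂ) : Prop where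
  prime : p.Prime
  odd : p ≠ 2
  modular : IsPModular p M
  n_ne : n ≠ 0
  n_reg : ¬ p ∣ n
  n_dvd : ∀ x : G, ¬ p ∣ orderOf x → orderOf x ∣ n
  normal : N.Normal
  irr : IsIrrCharacter N θ
  deg : ¬ p ∣ charDegree θ
  prat : PRat n θ
  inv : ∀ (g : G) (a b : N), (b : G) = g * a * g⁻¹ → θ b = θ a
  cong : ∀ x : N, ¬ p ∣ orderOf x → Cong0 p N (x : G) → MemLocalIdeal M (θ x - θ 1)
  centralised : ∀ (Q : Sylow p N) (x : G), ¬ p ∣ orderOf x →
    x ∈ N ⊔ Subgroup.centralizer (((Q : Subgroup N).map N.subtype : Subgroup G) : Set G)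

variable {n : ℕ} {θ : N → ℂ}

/-- A `p`-part count for groups mapped into `G` with the Sylow order of `N`. -/
theorem cong0_of_index {L : Type u} [Group L] [Finite L] [Fact p.Prime] (f : L →* G)
    (hf : Function.Injective f) (hv : (Nat.card L).factorization p = (Nat.card N).factorization p)
    (hN : ∀ P : Sylow p L, (P : Subgroup L).map f ≤ N) {x : L}
    (hx : ¬ p ∣ (Subgroup.centralizer ({x} : Set L)).index) : Cong0 p N (f x) := by
  set C := Subgroup.centralizer ({x} : Set L)
  obtain ⟨R⟩ : Nonempty (Sylow p C) := inferInstance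
  have hcard : Nat.card ((R : Subgroup C).map C.subtype) = p ^ (Nat.card L).factorization p := by
    rw [Nat.card_congr ((R : Subgroup C).equivMapOfInjective _ C.subtype_injective).toEquiv.symm,
      R.card_eq_multiplicity]
    congr 1
    rw [← C.card_mul_index, Nat.factorization_mul Nat.card_pos.ne' Subgroup.index_ne_zero_of_finite,
      Finsupp.add_apply, Nat.factorization_eq_zero_of_not_dvd hx, add_zero]
  let R' : Sylow p L := Sylow.ofCard _ hcard
  have hRN : ((R' : Subgroup L).map f).subgroupOf N = ((R' : Subgroup L).map f).subgroupOf N := rfl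
  have hcard' : Nat.card (((R' : Subgroup L).map f).subgroupOf N) = p ^ (Nat.card N).factorization p := by
    rw [Nat.card_congr (Subgroup.subgroupOfEquivOfLe (hN R')).toEquiv,
      ← Nat.card_congr ((R' : Subgroup L).equivMapOfInjective f hf).toEquiv, ← hv]
    exact hcard
  refine ⟨Sylow.ofCard _ hcard', fun q hq => ?_⟩
  obtain ⟨r, hr, hrq⟩ : (q : G) ∈ (R' : Subgroup L).map f := hq
  obtain ⟨c, -, rfl⟩ : r ∈ (R : Subgroup C).map C.subtype := hr
  rw [← hrq, ← map_mul, ← map_mul]
  exact congrArg f (Subgroup.mem_centralizer_singleton_iff.mp c.2)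

/-- Conversely, centralising a Sylow subgroup of `N` gives a class of size prime to `p`. -/
theorem index_of_cong0 {L : Type u} [Group L] [Finite L] [Fact p.Prime] (f : L →* G)
    (hf : Function.Injective f) (hv : (Nat.card L).factorization p = (Nat.card N).factorization p)
    (hN : N ≤ f.range) {x : L} (hx : Cong0 p N (f x)) :
    ¬ p ∣ (Subgroup.centralizer ({x} : Set L)).index := by
  obtain ⟨Q, hQ⟩ := hx
  set C := Subgroup.centralizer ({x} : Set L)
  let Q' := ((Q : Subgroup N).map N.subtype).comap f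
  have hle : Q' ≤ C := fun r hr => by
    obtain ⟨q, hq, hqr⟩ : f r ∈ (Q : Subgroup N).map N.subtype := hr
    refine Subgroup.mem_centralizer_singleton_iff.mpr (hf ?_)
    rw [map_mul, map_mul, ← hqr]
    exact hQ q hq
  have hcard : Nat.card Q' = p ^ (Nat.card L).factorization p := by
    rw [Nat.card_congr (Q'.equivMapOfInjective f hf).toEquiv,
      Subgroup.map_comap_eq_self (le_trans (Subgroup.map_subtype_le _) hN),
      ← Nat.card_congr ((Q : Subgroup N).equivMapOfInjective _ N.subtype_injective).toEquiv,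
      Q.card_eq_multiplicity, hv]
  intro hd
  have h1 : p ^ (Nat.card L).factorization p * p ∣ Nat.card L := by
    have h2 := Subgroup.card_dvd_of_le hle
    rw [hcard] at h2
    exact (mul_dvd_mul h2 hd).trans C.card_mul_index.dvd
  rw [← pow_succ] at h1
  exact Nat.pow_succ_factorization_not_dvd Nat.card_pos.ne' (Fact.out : p.Prime) h1

namespace Setup

variable (S : Setup p M N n θ)
include S

set_option linter.unusedSectionVars false in
theorem factorization_eq {K : Subgroup G} (hNK : N ≤ K) (hidx : ¬ p ∣ N.relIndex K) :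
    (Nat.card K).factorization p = (Nat.card N).factorization p := by
  have h := (N.subgroupOf K).card_mul_index
  rw [Nat.card_congr (Subgroup.subgroupOfEquivOfLe hNK).toEquiv, ← Subgroup.relIndex] at h
  rw [← h, Nat.factorization_mul Nat.card_pos.ne' (fun h0 => hidx (by rw [h0]; exact dvd_zero p)),
    Finsupp.add_apply, Nat.factorization_eq_zero_of_not_dvd hidx, add_zero]

theorem sylow_map_le {K : Subgroup G} (hidx : ¬ p ∣ N.relIndex K) (P : Sylow p K) :
    (P : Subgroup K).map K.subtype ≤ N := by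
  have := S.normal
  have : Fact p.Prime := ⟨S.prime⟩
  rintro _ ⟨y, hy, rfl⟩
  exact AlperinDade.sylow_le (N := N.subgroupOf K) hidx P hy

/-- `K` with `K / N` of order prime to `p` lies in `N C(Q)`. -/
theorem le_sup {K : Subgroup G} (hidx : ¬ p ∣ N.relIndex K) (Q : Sylow p N) :
    K ≤ N ⊔ Subgroup.centralizer (((Q : Subgroup N).map N.subtype : Subgroup G) : Set G) := by
  have := S.normal
  intro x hx
  set T := N ⊔ Subgroup.centralizer (((Q : Subgroup N).map N.subtype : Subgroup G) : Set G)
  set r := N.relIndex K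
  have h1 : x ^ r ∈ T := Subgroup.mem_sup_left
    (show (⟨x, hx⟩ : K) ^ r ∈ N.subgroupOf K from Subgroup.pow_index_mem _ _)
  set e := (orderOf x).factorization p
  have h2 : x ^ p ^ e ∈ T := by
    refine S.centralised Q _ ?_
    rw [orderOf_pow]
    rw [Nat.gcd_eq_right (Nat.ordProj_dvd _ _)]
    exact Nat.not_dvd_ordCompl S.prime (orderOf_pos x).ne'
  obtain ⟨a, b, hab⟩ : ∃ a b : ℤ, (r : ℤ) * a + (p ^ e : ℕ) * b = 1 := by
    refine ⟨Nat.gcdA r (p ^ e), Nat.gcdB r (p ^ e), ?_⟩
    rw [← Nat.gcd_eq_gcd_ab, ((S.prime.coprime_iff_not_dvd.mpr hidx).symm.pow_right e).gcd_eq_one]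
    rfl
  rw [← zpow_one x, ← hab, zpow_add, zpow_mul, zpow_mul, zpow_natCast, zpow_natCast]
  exact mul_mem (zpow_mem h1 a) (zpow_mem h2 b)

/-- A subgroup of a good extension's group inherits it. -/
theorem good_res {U V : Subgroup G} (hVU : V ≤ U) (hNV : N ≤ V) {χ : U → ℂ}
    (h : Good p M N n θ U χ) : Good p M N n θ V fun v => χ (Subgroup.inclusion hVU v) := by
  have := Fintype.ofFinite V
  have := Fintype.ofFinite N
  have := Fintype.ofFinite (N.subgroupOf V)
  have hchar : IsCharacter V fun v => χ (Subgroup.inclusion hVU v) :=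
    isCharacter_comp (isCharacter_of_isIrr h.irr) (Subgroup.inclusion hVU)
  refine ⟨irr_of_res (L := N.subgroupOf V) hchar ?_, fun x hx => h.res x (hVU hx), fun σ hσ => ?_,
    fun x hx hc => h.cong _ ?_ hc⟩
  · convert isIrr_comp_mulEquiv S.irr (Subgroup.subgroupOfEquivOfLe hNV) using 1
    funext l
    exact h.res (Subgroup.subgroupOfEquivOfLe hNV l) (hVU (l : V).2)
  · funext v
    exact congrFun (h.prat σ hσ) _
  · rwa [orderOf_injective _ (Subgroup.inclusion_injective hVU)]

/-- A conjugate of a good extension is good. -/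
theorem good_conj {U V : Subgroup G} (hNV : N ≤ V) (g : G) (hg : ∀ v ∈ V, g * v * g⁻¹ ∈ U) {χ : U → ℂ}
    (h : Good p M N n θ U χ) : Good p M N n θ V fun v => χ ⟨g * v * g⁻¹, hg v v.2⟩ := by
  have := Fintype.ofFinite V
  have := Fintype.ofFinite N
  have := Fintype.ofFinite (N.subgroupOf V)
  have := S.normal
  let f : V →* U := (((MulAut.conj g).toMonoidHom).comp V.subtype).codRestrict U fun v => hg v v.2
  have hchar : IsCharacter V fun v => χ ⟨g * v * g⁻¹, hg v v.2⟩ :=
    isCharacter_comp (isCharacter_of_isIrr h.irr) f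
  have hres : ∀ (x : N) (hx : (x : G) ∈ V), χ ⟨g * x * g⁻¹, hg x hx⟩ = θ x := fun x hx =>
    (h.res ⟨g * x * g⁻¹, ‹N.Normal›.conj_mem _ x.2 g⟩ (hg x hx)).trans (S.inv g x _ rfl)
  refine ⟨irr_of_res (L := N.subgroupOf V) hchar ?_, hres, fun σ hσ => ?_, fun x hx hc => h.cong (f x) ?_ ?_⟩
  · convert isIrr_comp_mulEquiv S.irr (Subgroup.subgroupOfEquivOfLe hNV) using 1
    funext l
    exact hres (Subgroup.subgroupOfEquivOfLe hNV l) (l : V).2
  · funext v
    exact congrFun (h.prat σ hσ) _
  · rwa [orderOf_injective f fun a b hab => Subtype.ext ((MulAut.conj g).injective (congrArg Subtype.val hab))]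
  · obtain ⟨Q, hQ⟩ := hc
    have : Fact p.Prime := ⟨S.prime⟩
    let γ : MulAut N := MulAut.conjNormal g
    refine ⟨Sylow.ofCard ((Q : Subgroup N).map γ.toMonoidHom) ?_, ?_⟩
    · rw [← Nat.card_congr ((Q : Subgroup N).equivMapOfInjective γ.toMonoidHom γ.injective).toEquiv]
      exact Q.card_eq_multiplicity
    · rintro _ ⟨q, hq, rfl⟩
      show g * q * g⁻¹ * (g * x * g⁻¹) = g * x * g⁻¹ * (g * q * g⁻¹)
      calc g * q * g⁻¹ * (g * x * g⁻¹) = g * (q * x) * g⁻¹ := by group
        _ = g * (x * q) * g⁻¹ := by rw [hQ q hq]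
        _ = _ := by group

/-- The good extensions to `K` with `K / N` of order prime to `p` lie in the principal block. -/
theorem good_mem {K : Subgroup G} [Fintype K] (hNK : N ≤ K) (hidx : ¬ p ∣ N.relIndex K) {η : K → ℂ}
    (h : Good p M N n θ K η) : (⟨η, h.irr⟩ : IrrCharacter K) ∈ principalBlock M K := by
  have : Fact p.Prime := ⟨S.prime⟩
  have h1 : η 1 = θ 1 := h.res 1 K.one_mem
  refine mem_of_cong S.modular ?_ fun x hx hK => ?_
  · show ¬ p ∣ charDegree η
    rw [show charDegree η = charDegree θ by rw [charDegree, charDegree, h1]]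
    exact S.deg
  · show MemLocalIdeal M (η x - η 1)
    rw [h1]
    exact h.cong x hx (cong0_of_index K.subtype K.subtype_injective (S.factorization_eq hNK hidx)
      (S.sylow_map_le hidx) hK)

end Setup

end CfsgLib.CharBlocks.PRatExtension
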