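import Cfsg.Agent.Lib.CharBlocks.PRatExtension.Unique
import Cfsg.Agent.Lib.Char.BrauerInduction
import Cfsg.Agent.Lib.Char.Generalized
import Cfsg.Agent.Lib.FGS.ThompsonKernel

/-!
# `p`-rational extensions in the principal block

The good extensions to the groups `N⟨g⟩` define a class function of `G`, which is a generalized
character by Brauer's characterisation and has norm one.
-/

set_option autoImplicit false

noncomputable section

namespace CfsgLib.CharBlocks.PRatExtension

open Cfsg CfsgLib.Char CfsgLib.CharNormal CfsgLib.Blocks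
open scoped ComplexConjugate Pointwise

universe u

variable {G : Type u} [Group G] [Fintype G] {p : ℕ} {M : Ideal AlgInt} {N : Subgroup G} {n : ℕ}
  {θ : N → ℂ}

namespace Setup

variable (S : Setup p M N n θ)
include S

/-- One good extension to `N E`, for `E` with a normal `p`-complement. -/
theorem exists_good_sup (E : Subgroup G) (hE : HasNormalPComplement p E) :
    ∃ χ : ↥(N ⊔ E) → ℂ, Good p M N n θ (N ⊔ E) χ ∧
      ∀ χ' : ↥(N ⊔ E) → ℂ, Good p M N n θ (N ⊔ E) χ' → χ' = χ := by
  have : Fact p.Prime := ⟨S.prime⟩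
  have := S.normal
  obtain ⟨P, C, hCn, hC⟩ := hE
  set C' := C.map E.subtype
  have hC'E : C' ≤ E := Subgroup.map_subtype_le C
  have hnormal : ((N ⊔ C').subgroupOf (N ⊔ E)).Normal := by
    refine (Subgroup.normal_subgroupOf_iff_le_normalizer (sup_le_sup_left hC'E N)).mpr
      (sup_le (le_sup_left.trans Subgroup.le_normalizer) ?_)
    refine le_trans (le_inf ?_ ?_) (Subgroup.normalizer_inf_normalizer_le_normalizer_sup N C')
    · rw [Subgroup.normalizer_eq_top N]; exact le_top
    · refine (Subgroup.normal_subgroupOf_iff_le_normalizer hC'E).mp ?_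
      rwa [show C'.subgroupOf E = C from Subgroup.comap_map_eq_self_of_injective E.subtype_injective C]
  have hidx : ¬ p ∣ N.relIndex (N ⊔ C') := by
    intro hd
    rw [sup_comm, Subgroup.relIndex_sup_right] at hd
    have h1 : p ∣ Nat.card C := by
      rw [Nat.card_congr (C.equivMapOfInjective _ E.subtype_injective).toEquiv]
      exact hd.trans (Subgroup.index_dvd_card _)
    rw [← hC.index_eq_card] at h1
    exact P.not_dvd_index h1
  have hpow : ∃ a : ℕ, (N ⊔ C').relIndex (N ⊔ E) = p ^ a := by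
    have h1 := Subgroup.relIndex_mul_relIndex N (N ⊔ C') (N ⊔ E) le_sup_left (sup_le_sup_left hC'E N)
    rw [show N.relIndex (N ⊔ C') = N.relIndex C' by rw [sup_comm, Subgroup.relIndex_sup_right],
      show N.relIndex (N ⊔ E) = N.relIndex E by rw [sup_comm, Subgroup.relIndex_sup_right]] at h1
    have h2 : N.relIndex E ∣ N.relIndex C' * C'.relIndex E := by
      have h3 := Subgroup.relIndex_mul_relIndex (N ⊓ C') C' E inf_le_right hC'E
      rw [Subgroup.inf_relIndex_right] at h3
      rw [h3]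
      exact Subgroup.relIndex_dvd_of_le_left E inf_le_left
    rw [← h1] at h2
    have h4 : (N ⊔ C').relIndex (N ⊔ E) ∣ C'.relIndex E :=
      Nat.dvd_of_mul_dvd_mul_left (Nat.pos_of_ne_zero Subgroup.index_ne_zero_of_finite) h2
    rw [show C'.relIndex E = C.index by
      rw [Subgroup.relIndex, show C'.subgroupOf E = C from
        Subgroup.comap_map_eq_self_of_injective E.subtype_injective C],
      hC.symm.index_eq_card, P.card_eq_multiplicity] at h4
    obtain ⟨a, -, ha⟩ := (Nat.dvd_prime_pow S.prime).mp h4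
    exact ⟨a, ha⟩
  exact S.existsUnique_good le_sup_left (sup_le_sup_left hC'E N) hidx hpow

omit S [Fintype G] in
theorem hasNormalPComplement_zpowers [Finite G] [Fact p.Prime] (g : G) :
    HasNormalPComplement p (Subgroup.zpowers g) := by
  have : Group.IsNilpotent (Subgroup.zpowers g) :=
    Group.isNilpotent_of_finite_tfae (G := Subgroup.zpowers g) |>.out 3 0 rfl rfl |>.1 fun q hq P =>
      ⟨fun a ha b => by
        rw [show b * a * b⁻¹ = a by rw [mul_comm' b a, mul_inv_cancel_right]]; exact ha⟩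
  exact CfsgLib.FGS.hasNormalPComplement_of_isNilpotent _

/-- The glued extension. -/
def ext (g : G) : ℂ :=
  haveI : Fact p.Prime := ⟨S.prime⟩
  (S.exists_good_sup (Subgroup.zpowers g) (hasNormalPComplement_zpowers g)).choose
    ⟨g, Subgroup.mem_sup_right (Subgroup.mem_zpowers g)⟩

/-- The glued function agrees with every good extension. -/
theorem ext_eq {U : Subgroup G} (hNU : N ≤ U) {η : U → ℂ} (hη : Good p M N n θ U η) (x : U) :
    S.ext (x : G) = η x := by
  have : Fact p.Prime := ⟨S.prime⟩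
  obtain ⟨-, hu⟩ := (S.exists_good_sup (Subgroup.zpowers (x : G)) (hasNormalPComplement_zpowers _)).choose_spec
  have hle : N ⊔ Subgroup.zpowers (x : G) ≤ U := sup_le hNU (Subgroup.zpowers_le.mpr x.2)
  exact (congrFun (hu _ (S.good_res hle le_sup_left hη))
    ⟨(x : G), Subgroup.mem_sup_right (Subgroup.mem_zpowers _)⟩).symm

theorem exists_good_zpowers (g : G) :
    ∃ η : ↥(N ⊔ Subgroup.zpowers g) → ℂ, Good p M N n θ (N ⊔ Subgroup.zpowers g) η := by
  have : Fact p.Prime := ⟨S.prime⟩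
  obtain ⟨η, hη, -⟩ := S.exists_good_sup _ (hasNormalPComplement_zpowers g)
  exact ⟨η, hη⟩

theorem ext_mem (x : N) : S.ext (x : G) = θ x := by
  obtain ⟨η, hη⟩ := S.exists_good_zpowers (x : G)
  have hm : (x : G) ∈ N ⊔ Subgroup.zpowers (x : G) := Subgroup.mem_sup_left x.2
  rw [S.ext_eq le_sup_left hη ⟨(x : G), hm⟩, hη.res x hm]

theorem isClassFunction_ext : IsClassFunction G S.ext := by
  intro g h
  have := S.normal
  obtain ⟨η, hη⟩ := S.exists_good_zpowers (h * g * h⁻¹)
  have hmap : ∀ v ∈ N ⊔ Subgroup.zpowers g, h * v * h⁻¹ ∈ N ⊔ Subgroup.zpowers (h * g * h⁻¹) := by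
    intro v hv
    obtain ⟨a, ha, b, hb, rfl⟩ := Subgroup.mem_sup_of_normal_left.mp hv
    obtain ⟨i, rfl⟩ := Subgroup.mem_zpowers_iff.mp hb
    rw [show h * (a * g ^ i) * h⁻¹ = (h * a * h⁻¹) * (h * g * h⁻¹) ^ i by rw [conj_zpow]; group]
    exact Subgroup.mul_mem_sup (‹N.Normal›.conj_mem a ha h) (zpow_mem (Subgroup.mem_zpowers _) i)
  have hm : g ∈ N ⊔ Subgroup.zpowers g := Subgroup.mem_sup_right (Subgroup.mem_zpowers g)
  rw [S.ext_eq le_sup_left (S.good_conj le_sup_left h hmap hη) ⟨g, hm⟩,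
    ← S.ext_eq le_sup_left hη ⟨h * g * h⁻¹, hmap g hm⟩]

theorem isGen_ext : IsGeneralizedCharacter G S.ext := by
  have : Fact p.Prime := ⟨S.prime⟩
  refine isGen_of_elementary S.isClassFunction_ext fun E q hq hE => ?_
  have : Group.IsNilpotent E := isNilpotent_of_isElementary hq hE
  obtain ⟨η, hη, -⟩ := S.exists_good_sup E (CfsgLib.FGS.hasNormalPComplement_of_isNilpotent E)
  rw [show (fun e : E => S.ext e) = fun e : E => η (Subgroup.inclusion le_sup_right e) from
    funext fun e => S.ext_eq le_sup_left hη (Subgroup.inclusion le_sup_right e)]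
  exact isGen_of_char (isCharacter_comp (isCharacter_of_isIrr hη.irr) (Subgroup.inclusion le_sup_right))

theorem norm_ext : classInner S.ext S.ext = 1 := by
  have := Fintype.ofFinite N
  refine norm_one_of_coset (L := N) fun g => ?_
  set U := N ⊔ Subgroup.zpowers g
  obtain ⟨η, hη⟩ := (S.exists_good_zpowers g : ∃ η : U → ℂ, Good p M N n θ U η)
  have := Fintype.ofFinite U
  have := Fintype.ofFinite (N.subgroupOf U)
  have hm : g ∈ U := Subgroup.mem_sup_right (Subgroup.mem_zpowers g)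
  have hres : IsIrrCharacter (N.subgroupOf U) (fun x : N.subgroupOf U => η (x : U)) := by
    convert isIrr_comp_mulEquiv S.irr (Subgroup.subgroupOfEquivOfLe (le_sup_left : N ≤ U)) using 1
    funext l
    exact hη.res (Subgroup.subgroupOfEquivOfLe (le_sup_left : N ≤ U) l) (l : U).2
  have h := sum_normSq_coset (N.subgroupOf U) (isCharacter_of_isIrr hη.irr) hres ⟨g, hm⟩
  rw [Nat.card_congr (Subgroup.subgroupOfEquivOfLe (le_sup_left : N ≤ U)).toEquiv] at h
  rw [← h]
  refine (Fintype.sum_equiv (Subgroup.subgroupOfEquivOfLe (le_sup_left : N ≤ U)).toEquiv _ _ fun l => ?_).symm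
  rw [← S.ext_eq le_sup_left hη (⟨g, hm⟩ * (l : U))]
  rfl

theorem isIrr_ext : IsIrrCharacter G S.ext := by
  have := Fintype.ofFinite N
  refine gen_norm_one_pos S.isGen_ext S.norm_ext ?_
  rw [show S.ext 1 = θ 1 from S.ext_mem 1, show θ 1 = (charDegree θ : ℂ) from
    (coe_charDegree_irr (⟨θ, S.irr⟩ : IrrCharacter N)).symm, Complex.natCast_re, Nat.cast_pos]
  exact Nat.pos_of_ne_zero fun h0 => S.deg (by rw [show charDegree θ = 0 from h0]; exact dvd_zero p)

theorem prat_ext : PRat n S.ext := fun σ hσ => funext fun g => by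
  obtain ⟨η, hη⟩ := S.exists_good_zpowers g
  have hm : g ∈ N ⊔ Subgroup.zpowers g := Subgroup.mem_sup_right (Subgroup.mem_zpowers g)
  rw [Function.comp_apply, S.ext_eq le_sup_left hη ⟨g, hm⟩]
  exact congrFun (hη.prat σ hσ) _

theorem ext_mem_principalBlock : (⟨S.ext, S.isIrr_ext⟩ : IrrCharacter G) ∈ principalBlock M G := by
  have : Fact p.Prime := ⟨S.prime⟩
  have := S.normal
  have h1 : S.ext 1 = θ 1 := S.ext_mem 1
  refine mem_of_cong S.modular ?_ fun x hx hK => ?_
  · show ¬ p ∣ charDegree S.ext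
    rw [show charDegree S.ext = charDegree θ by rw [charDegree, charDegree, h1]]
    exact S.deg
  show MemLocalIdeal M (S.ext x - S.ext 1)
  obtain ⟨η, hη⟩ := S.exists_good_zpowers x
  have hm : x ∈ N ⊔ Subgroup.zpowers x := Subgroup.mem_sup_right (Subgroup.mem_zpowers x)
  rw [h1, S.ext_eq le_sup_left hη ⟨x, hm⟩]
  refine hη.cong _ ?_ ?_
  · rwa [← orderOf_injective (N ⊔ Subgroup.zpowers x).subtype Subtype.val_injective]
  set C := Subgroup.centralizer ({x} : Set G)
  obtain ⟨R⟩ : Nonempty (Sylow p C) := inferInstance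
  have hcard : Nat.card ((R : Subgroup C).map C.subtype) = p ^ (Nat.card G).factorization p := by
    rw [Nat.card_congr ((R : Subgroup C).equivMapOfInjective _ C.subtype_injective).toEquiv.symm,
      R.card_eq_multiplicity]
    congr 1
    rw [← C.card_mul_index, Nat.factorization_mul Nat.card_pos.ne' Subgroup.index_ne_zero_of_finite,
      Finsupp.add_apply, Nat.factorization_eq_zero_of_not_dvd hK, add_zero]
  let P : Sylow p G := Sylow.ofCard _ hcard
  obtain ⟨Q₀⟩ : Nonempty (Sylow p N) := inferInstance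
  obtain ⟨P₀, hP₀⟩ := (Q₀.isPGroup'.map N.subtype).exists_le_sylow
  obtain ⟨g, hg⟩ := MulAction.exists_smul_eq G P₀ P
  let γ : MulAut N := MulAut.conjNormal g
  refine ⟨Sylow.ofCard ((Q₀ : Subgroup N).map γ.toMonoidHom) ?_, ?_⟩
  · rw [← Nat.card_congr ((Q₀ : Subgroup N).equivMapOfInjective γ.toMonoidHom γ.injective).toEquiv]
    exact Q₀.card_eq_multiplicity
  · rintro _ ⟨q, hq, rfl⟩
    have hP : g * (q : G) * g⁻¹ ∈ (P : Subgroup G) := by
      rw [← hg]
      exact Subgroup.smul_mem_pointwise_smul (q : G) (MulAut.conj g) _ (hP₀ ⟨q, hq, rfl⟩)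
    obtain ⟨c, -, hc⟩ : g * (q : G) * g⁻¹ ∈ (R : Subgroup C).map C.subtype := hP
    show g * (q : G) * g⁻¹ * x = x * (g * (q : G) * g⁻¹)
    rw [← hc]
    exact Subgroup.mem_centralizer_singleton_iff.mp c.2

end Setup

/-- **A `p`-rational extension in the principal block.** -/
theorem exists_extension [Fact p.Prime] (hp : p ≠ 2) (hM : IsPModular p M) (hNn : N.Normal)
    (χ₀ : IrrCharacter N)
    (hinv : ∀ (g : G) (a b : N), (b : G) = g * a * g⁻¹ → (χ₀ : N → ℂ) b = (χ₀ : N → ℂ) a)
    (hdeg : ¬ p ∣ charDegree (χ₀ : N → ℂ)) {m : ℕ} (hm : ¬ p ∣ m)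
    (hrat : ∀ x : N, (χ₀ : N → ℂ) x ∈ IntermediateField.adjoin ℚ
      ({Complex.exp (2 * Real.pi * Complex.I / m)} : Set ℂ))
    (hB : χ₀ ∈ principalBlock M N) (Q : Sylow p N)
    (hidx : ∃ a : ℕ, (N ⊔ Subgroup.centralizer (((Q : Subgroup N).map N.subtype : Subgroup G) : Set G)).index =
      p ^ a) :
    ∃ χ : IrrCharacter G, χ ∈ principalBlock M G ∧
      (∃ k : ℕ, ¬ p ∣ k ∧ ∀ g : G, (χ : G → ℂ) g ∈ IntermediateField.adjoin ℚ
        ({Complex.exp (2 * Real.pi * Complex.I / k)} : Set ℂ)) ∧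
      ∀ x : N, (χ : G → ℂ) x = (χ₀ : N → ℂ) x := by
  classical
  have hpp : p.Prime := Fact.out
  have := Fintype.ofFinite N
  have hm0 : m ≠ 0 := fun h => hm (h ▸ dvd_zero p)
  set c := ordCompl[p] (Nat.card G)
  have hn : ¬ p ∣ m * c := fun h => (hpp.dvd_mul.mp h).elim hm
    (Nat.not_dvd_ordCompl hpp Nat.card_pos.ne')
  set T : Sylow p N → Subgroup G := fun R =>
    N ⊔ Subgroup.centralizer (((R : Subgroup N).map N.subtype : Subgroup G) : Set G)
  -- conjugating the defining Sylow subgroup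
  have hconj : ∀ (g : G) (R : Sylow p N), ∀ x ∈ T R, ∀ R' : Sylow p N,
      (∀ q ∈ (R' : Subgroup N), g⁻¹ * (q : G) * g ∈ (R : Subgroup N).map N.subtype) →
      g * x * g⁻¹ ∈ T R' := by
    intro g R x hx R' hR'
    obtain ⟨a, ha, b, hb, rfl⟩ := Subgroup.mem_sup_of_normal_left.mp hx
    rw [show g * (a * b) * g⁻¹ = (g * a * g⁻¹) * (g * b * g⁻¹) by group]
    refine Subgroup.mul_mem_sup (hNn.conj_mem a ha g) ?_
    rw [Subgroup.mem_centralizer_iff]
    rintro _ ⟨q, hq, rfl⟩
    have h1 := Subgroup.mem_centralizer_iff.mp hb _ (hR' q hq)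
    calc (q : G) * (g * b * g⁻¹) = g * (g⁻¹ * q * g * b) * g⁻¹ := by group
      _ = g * (b * (g⁻¹ * q * g)) * g⁻¹ := by rw [h1]
      _ = g * b * g⁻¹ * q := by group
  have hmove : ∀ R : Sylow p N, ∃ a : N, ∀ q ∈ (R : Subgroup N),
      (a : G)⁻¹ * (q : G) * a ∈ (Q : Subgroup N).map N.subtype := by
    intro R
    obtain ⟨a, ha⟩ := MulAction.exists_smul_eq N Q R
    refine ⟨a, fun q hq => ?_⟩
    rw [← ha] at hq
    obtain ⟨r, hr, hrq⟩ : q ∈ ((MulAut.conj a) • (Q : Subgroup N)) := hq
    refine ⟨r, hr, ?_⟩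
    rw [show q = a * r * a⁻¹ from hrq.symm]
    simp only [Subgroup.subtype_apply, Subgroup.coe_mul, InvMemClass.coe_inv]
    group
  have hnormal : (T Q).Normal := by
    refine ⟨fun x hx g => ?_⟩
    let γ : MulAut N := MulAut.conjNormal g
    let R : Sylow p N := Sylow.ofCard ((Q : Subgroup N).map γ.toMonoidHom) (by
      rw [← Nat.card_congr ((Q : Subgroup N).equivMapOfInjective γ.toMonoidHom γ.injective).toEquiv]
      exact Q.card_eq_multiplicity)
    have h1 : g * x * g⁻¹ ∈ T R := hconj g Q x hx R (by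
      rintro _ ⟨q, hq, rfl⟩
      refine ⟨q, hq, ?_⟩
      show (q : G) = g⁻¹ * (g * q * g⁻¹) * g
      group)
    obtain ⟨b, hb⟩ := hmove R
    have h2 : (b : G)⁻¹ * (g * x * g⁻¹) * ((b : G)⁻¹)⁻¹ ∈ T Q := hconj (b : G)⁻¹ R _ h1 Q (by
      intro q hq
      have : ((Q : Subgroup N).map N.subtype).map (MulAut.conj (b : G)).toMonoidHom =
          (R : Subgroup N).map N.subtype := by
        refine (Subgroup.eq_of_le_of_card_ge ?_ ?_).symm
        · rintro _ ⟨r, hr, rfl⟩
          exact ⟨_, hb r hr, by simp; group⟩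
        · rw [← Nat.card_congr (Subgroup.equivMapOfInjective _ _ (MulAut.conj (b : G)).injective).toEquiv,
            ← Nat.card_congr ((Q : Subgroup N).equivMapOfInjective _ N.subtype_injective).toEquiv,
            ← Nat.card_congr ((R : Subgroup N).equivMapOfInjective _ N.subtype_injective).toEquiv,
            Q.card_eq_multiplicity, R.card_eq_multiplicity]
      rw [← this, inv_inv]
      exact ⟨q, ⟨q, hq, rfl⟩, rfl⟩)
    have hb2 : (b : G) ∈ T Q := Subgroup.mem_sup_left b.2
    have := mul_mem (mul_mem hb2 h2) (inv_mem hb2)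
    rwa [show (b : G) * ((b : G)⁻¹ * (g * x * g⁻¹) * ((b : G)⁻¹)⁻¹) * (b : G)⁻¹ = g * x * g⁻¹ by group] at this
  obtain ⟨e, he⟩ := hidx
  have hreg : ∀ x : G, ¬ p ∣ orderOf x → x ∈ T Q := by
    intro x hx
    have h1 : orderOf (x : G ⧸ T Q) ∣ p ^ e := by
      rw [← he, Subgroup.index_eq_card]; exact orderOf_dvd_natCard _
    have h2 : orderOf (x : G ⧸ T Q) ∣ orderOf x := orderOf_map_dvd (QuotientGroup.mk' (T Q)) x
    have := Nat.dvd_gcd h1 h2
    rw [((hpp.coprime_iff_not_dvd.mpr hx).pow_left e).gcd_eq_one, Nat.dvd_one, orderOf_eq_one_iff] at this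
    exact (QuotientGroup.eq_one_iff x).mp this
  have S : Setup p M N (m * c) (χ₀ : N → ℂ) :=
    { prime := hpp
      odd := hp
      modular := hM
      n_ne := fun h => hn (h ▸ dvd_zero p)
      n_reg := hn
      n_dvd := fun x hx => Dvd.dvd.mul_left (Nat.Coprime.dvd_of_dvd_mul_left
        ((hpp.coprime_iff_not_dvd.mpr hx).pow_left _).symm
        (by rw [Nat.ordProj_mul_ordCompl_eq_self]; exact orderOf_dvd_natCard x)) m
      normal := hNn
      irr := χ₀.2
      deg := hdeg
      prat := fun σ hσ => funext fun x => fixing_adjoin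
        (fun z hz => hσ z (by rw [pow_mul, hz, one_pow])) hm0 (hrat x)
      inv := hinv
      cong := fun x _ hx => cong_of_mem hM hB
        (index_of_cong0 N.subtype N.subtype_injective rfl (by rw [Subgroup.range_subtype]) hx)
      centralised := fun R x hx => by
        obtain ⟨a, ha⟩ := hmove R
        have h := hconj (a : G) Q ((a : G)⁻¹ * x * a) (hreg _ (by
          rwa [show (a : G)⁻¹ * x * a = MulAut.conj (a : G)⁻¹ x by simp [MulAut.conj_apply],
            MulEquiv.orderOf_eq])) R ha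
        rwa [show (a : G) * ((a : G)⁻¹ * x * a) * (a : G)⁻¹ = x by group] at h }
  exact ⟨⟨S.ext, S.isIrr_ext⟩, S.ext_mem_principalBlock,
    ⟨m * c, hn, mem_adjoin_of_PRat S.n_ne (isCharacter_of_isIrr S.isIrr_ext) S.prat_ext⟩, S.ext_mem⟩

end CfsgLib.CharBlocks.PRatExtension
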