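import Cfsg.Agent.Lib.CharBlocks.PRatExtension.Good

/-!
# Existence and uniqueness of good extensions

For `N ≤ K ≤ U` with `K` normal in `U`, `p ∤ |K : N|` and `|U : K|` a power of `p`, there is exactly
one good extension to `U`: the Alperin–Dade extension to `K`, then the canonical one.
-/

set_option autoImplicit false

noncomputable section

namespace CfsgLib.CharBlocks.PRatExtension

open Cfsg CfsgLib.Char CfsgLib.CharNormal CfsgLib.Blocks

universe u

variable {G : Type u} [Group G] [Fintype G] {p : ℕ} {M : Ideal AlgInt} {N : Subgroup G} {n : ℕ}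
  {θ : N → ℂ}

/-- The pull back of `θ` to the copy of `N` in `U`. -/
def copy {U : Subgroup G} (hNU : N ≤ U) (θ : N → ℂ) : N.subgroupOf U → ℂ :=
  θ ∘ Subgroup.subgroupOfEquivOfLe hNU

namespace Setup

variable (S : Setup p M N n θ)
include S

theorem sup_centralizer_eq_top {K : Subgroup G} (hNK : N ≤ K) (hidx : ¬ p ∣ N.relIndex K)
    [Fact p.Prime] (P : Sylow p K) :
    N.subgroupOf K ⊔ Subgroup.centralizer ((P : Subgroup K) : Set K) = ⊤ := by
  have := S.normal
  have hPN := S.sylow_map_le hidx P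
  let P' := ((P : Subgroup K).map K.subtype).subgroupOf N
  have hcard : Nat.card P' = p ^ (Nat.card N).factorization p := by
    rw [Nat.card_congr (Subgroup.subgroupOfEquivOfLe hPN).toEquiv,
      ← Nat.card_congr ((P : Subgroup K).equivMapOfInjective _ K.subtype_injective).toEquiv,
      ← S.factorization_eq hNK hidx]
    exact P.card_eq_multiplicity
  let Q : Sylow p N := Sylow.ofCard P' hcard
  have hQ : ((Q : Subgroup N).map N.subtype) = (P : Subgroup K).map K.subtype :=
    Subgroup.map_subgroupOf_eq_of_le hPN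
  refine top_unique fun x _ => ?_
  obtain ⟨a, ha, c, hc, hac⟩ := Subgroup.mem_sup_of_normal_left.mp (S.le_sup hidx Q x.2)
  have hcK : c ∈ K := by
    rw [show c = a⁻¹ * (x : G) by rw [← hac, inv_mul_cancel_left]]
    exact mul_mem (inv_mem (hNK ha)) x.2
  refine Subgroup.mem_sup_of_normal_left.mpr ⟨⟨a, hNK ha⟩, ha, ⟨c, hcK⟩, ?_, Subtype.ext hac⟩
  rw [Subgroup.mem_centralizer_iff]
  intro y hy
  refine Subtype.ext (Subgroup.mem_centralizer_iff.mp hc (y : G) ?_)
  rw [SetLike.mem_coe, hQ]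
  exact ⟨y, hy, rfl⟩

/-- The members of the principal block over `θ` are good. -/
theorem exists_good_prime {K : Subgroup G} (hNK : N ≤ K) (hidx : ¬ p ∣ N.relIndex K) :
    ∃ η : K → ℂ, Good p M N n θ K η ∧ ∀ η' : K → ℂ, Good p M N n θ K η' → η' = η := by
  classical
  have : Fact p.Prime := ⟨S.prime⟩
  have := S.modular.2.1
  have := S.normal
  set N' := N.subgroupOf K
  have hir : IsIrrCharacter N' (copy hNK θ) := isIrr_comp_mulEquiv S.irr _
  obtain ⟨P⟩ : Nonempty (Sylow p K) := inferInstance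
  have hsup := S.sup_centralizer_eq_top hNK hidx P
  have hv : (Nat.card N').factorization p = (Nat.card N).factorization p := by
    rw [Nat.card_congr (Subgroup.subgroupOfEquivOfLe hNK).toEquiv]
  have hθ : (⟨copy hNK θ, hir⟩ : IrrCharacter N') ∈ principalBlock M N' := by
    refine mem_of_cong S.modular ?_ fun x hx hK => ?_
    · show ¬ p ∣ charDegree (copy hNK θ)
      rw [show charDegree (copy hNK θ) = charDegree θ from rfl]
      exact S.deg
    · refine S.cong _ ?_ (cong0_of_index (K.subtype.comp N'.subtype)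
        (K.subtype_injective.comp N'.subtype_injective) hv (fun P => ?_) hK)
      · rwa [(Subgroup.subgroupOfEquivOfLe hNK).orderOf_eq]
      · rintro _ ⟨y, -, rfl⟩
        exact y.2
  obtain ⟨χ, hχB, hχ⟩ := AlperinDade.exists_res_eq N' P S.modular hidx hsup hθ
  have hχ1 : (χ : K → ℂ) 1 = θ 1 := by
    have := hχ 1
    simpa [copy] using this
  have hres : ∀ (x : N) (h : (x : G) ∈ K), (χ : K → ℂ) ⟨x, h⟩ = θ x := fun x h => hχ ⟨⟨x, h⟩, x.2⟩
  have hdeg : ¬ p ∣ charDegree (χ : K → ℂ) := by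
    rw [show charDegree (χ : K → ℂ) = charDegree θ by rw [charDegree, charDegree, hχ1]]
    exact S.deg
  have huniq : ∀ χ' : IrrCharacter K, χ' ∈ principalBlock M K →
      (∀ (x : N) (h : (x : G) ∈ K), (χ' : K → ℂ) ⟨x, h⟩ = θ x) → χ' = χ := fun χ' h1 h2 =>
    AlperinDade.eq_of_res_eq N' P S.modular hidx hsup h1 hχB fun y => by
      show (χ' : K → ℂ) (y : K) = (χ : K → ℂ) (y : K)
      rw [← Subtype.coe_eta (y : K) (y : K).2, h2 ⟨(y : G), y.2⟩, hres ⟨(y : G), y.2⟩]
  have hc : ∀ x : K, ¬ p ∣ orderOf x → Cong0 p N (x : G) →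
      MemLocalIdeal M ((χ : K → ℂ) x - θ 1) := fun x hx hx0 => by
    rw [← hχ1]
    exact cong_of_mem S.modular hχB (index_of_cong0 K.subtype K.subtype_injective
      (S.factorization_eq hNK hidx) (by rw [Subgroup.range_subtype]; exact hNK) hx0)
  refine ⟨χ, ⟨χ.2, hres, fun σ hσ => ?_, hc⟩, fun η hη => ?_⟩
  · have hmem : galIrr σ χ ∈ principalBlock M K := by
      refine mem_of_cong S.modular ?_ fun x hx hK => ?_
      · rw [show charDegree (galIrr σ χ : K → ℂ) = charDegree (χ : K → ℂ) by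
          rw [charDegree, charDegree, galIrr_apply,
            fixing_apply hσ (isCharacter_of_isIrr χ.2) (by rw [orderOf_one]; exact one_dvd n)]]
        exact hdeg
      · have hn : orderOf x ∣ n := by
          rw [← orderOf_injective K.subtype K.subtype_injective x]
          exact S.n_dvd _ (by rwa [orderOf_injective K.subtype K.subtype_injective x])
        rw [galIrr_apply, galIrr_apply, fixing_apply hσ (isCharacter_of_isIrr χ.2) hn,
          fixing_apply hσ (isCharacter_of_isIrr χ.2) (by rw [orderOf_one]; exact one_dvd n)]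
        exact cong_of_mem S.modular hχB hK
    have := huniq _ hmem fun x h => by
      rw [galIrr_apply, hres]
      exact congrFun (S.prat σ hσ) x
    exact congrArg Subtype.val this
  · exact congrArg Subtype.val (huniq ⟨η, hη.irr⟩ (S.good_mem hNK hidx hη) hη.res)

/-- One good extension to `U`. -/
theorem existsUnique_good {K U : Subgroup G} (hNK : N ≤ K) (hKU : K ≤ U) [(K.subgroupOf U).Normal]
    (hidx : ¬ p ∣ N.relIndex K) (hpow : ∃ a : ℕ, K.relIndex U = p ^ a) :
    ∃ χ : U → ℂ, Good p M N n θ U χ ∧ ∀ χ' : U → ℂ, Good p M N n θ U χ' → χ' = χ := by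
  classical
  have : Fact p.Prime := ⟨S.prime⟩
  have := S.normal
  obtain ⟨η, hη, hηu⟩ := S.exists_good_prime hNK hidx
  set K' := K.subgroupOf U
  let ϑ : K' → ℂ := η ∘ Subgroup.subgroupOfEquivOfLe hKU
  have hϑ : IsIrrCharacter K' ϑ := isIrr_comp_mulEquiv hη.irr _
  have hϑp : PRat n ϑ := fun σ hσ => funext fun x => congrFun (hη.prat σ hσ) _
  have hϑd : ∀ {d : ℕ}, ϑ 1 = d → ¬ p ∣ d := fun {d} hd => by
    have h1 : θ 1 = d := by rw [← hd, ← hη.res 1 K.one_mem]; rfl
    rw [show d = charDegree θ by rw [charDegree, h1, Complex.natCast_re, Nat.floor_natCast]]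
    exact S.deg
  obtain ⟨d, hd⟩ := exists_degree (isCharacter_of_isIrr hϑ)
  have hinv : ∀ (g : U) (x : K'), ϑ ⟨g * x * g⁻¹, (inferInstance : K'.Normal).conj_mem (x : U) x.2 g⟩ = ϑ x := by
    intro g x
    have hmem : ∀ v ∈ K, (g : G) * v * (g : G)⁻¹ ∈ K := fun v hv =>
      (inferInstance : K'.Normal).conj_mem ⟨v, hKU hv⟩ hv g
    exact congrFun (hηu _ (S.good_conj hNK (g : G) hmem hη)) (Subgroup.subgroupOfEquivOfLe hKU x)
  obtain ⟨a, ha⟩ := hpow
  have hcop' : ∀ {m : ℕ}, ¬ p ∣ m → K'.index.Coprime m := fun {m} hm => by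
    rw [show K'.index = p ^ a from ha]
    exact (S.prime.coprime_iff_not_dvd.mpr hm).pow_left a
  have hcop : Nat.Coprime K'.index (detOrder ϑ * d) := Nat.Coprime.mul_right
    (hcop' (not_dvd_detOrder S.odd S.n_ne S.n_reg (isCharacter_of_isIrr hϑ) hϑp)) (hcop' (hϑd hd))
  obtain ⟨χ, ⟨hχ, hχres, hχdet⟩, hu⟩ := Cfsg.Agent.S0867.result K' ϑ hϑ hinv d hd hcop
  have hresN : ∀ (x : N) (h : (x : G) ∈ U), χ ⟨x, h⟩ = θ x := fun x h =>
    (hχres ⟨⟨x, h⟩, hNK x.2⟩).trans (hη.res x (hNK x.2))
  refine ⟨χ, ⟨hχ, hresN, fun σ hσ => ?_, fun x hx hc => ?_⟩, fun χ' h' => ?_⟩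
  · refine hu _ (isIrr_ringEquiv σ hχ) (fun y => ?_) ?_
    · rw [Function.comp_apply, hχres]
      exact congrFun (hϑp σ hσ) y
    · rw [CyclicGlauberman.detOrder_ringEquiv σ (isCharacter_of_isIrr hχ), hχdet]
      exact hcop.coprime_dvd_right (Dvd.intro _ rfl)
  · have hxK : x ∈ K' := by
      have h1 : orderOf (x : U ⧸ K') ∣ p ^ a := by
        rw [← show K'.index = p ^ a from ha, Subgroup.index_eq_card]
        exact orderOf_dvd_natCard _
      have h2 : orderOf (x : U ⧸ K') ∣ orderOf x := orderOf_map_dvd (QuotientGroup.mk' K') x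
      have := Nat.dvd_gcd h1 h2
      rw [((S.prime.coprime_iff_not_dvd.mpr hx).pow_left a).gcd_eq_one, Nat.dvd_one,
        orderOf_eq_one_iff] at this
      exact (QuotientGroup.eq_one_iff x).mp this
    rw [hχres ⟨x, hxK⟩]
    refine hη.cong (Subgroup.subgroupOfEquivOfLe hKU ⟨x, hxK⟩) ?_ hc
    rwa [(Subgroup.subgroupOfEquivOfLe hKU).orderOf_eq, ← orderOf_injective K'.subtype K'.subtype_injective]
  · refine hu χ' h'.irr (fun y => ?_) ?_
    · have := congrFun (hηu _ (S.good_res hKU hNK h')) (Subgroup.subgroupOfEquivOfLe hKU y)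
      exact this
    · exact hcop' (not_dvd_detOrder S.odd S.n_ne S.n_reg (isCharacter_of_isIrr h'.irr) h'.prat)

end Setup

end CfsgLib.CharBlocks.PRatExtension
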